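import Groth.Agent.L11.BlowSmooth.Sch
import Groth.Agent.L22.Ideal

/-!
# The charts of a blow-up over an affine open, compared
-/

set_option autoImplicit false
set_option linter.style.haveILetI false
set_option backward.isDefEq.respectTransparency false
set_option backward.isDefEq.respectTransparency.types false

universe u

open CategoryTheory CategoryTheory.Limits AlgebraicGeometry TopologicalSpace
open Groth.L11.BlowSmooth Groth.L13.BU

namespace Groth.L11.BlowProj

/-- Effective Cartier ideals restrict along open immersions. -/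
theorem isEffCartier_comap_open {X Y : Scheme.{u}} (j : X ⟶ Y) [IsOpenImmersion j] {I : Y.IdealSheafData}
    (hI : BlowUp.IsEffCartierIdeal I) : BlowUp.IsEffCartierIdeal (I.comap j) := by
  intro x
  obtain ⟨U, hxU, f, -, -, hU⟩ := Groth.L22.Ideals.exists_generator hI (j x)
  obtain ⟨_, ⟨V, hV, rfl⟩, hxV, hVU⟩ := X.isBasis_affineOpens.exists_subset_of_mem_open
    (a := x) (show x ∈ j ⁻¹ᵁ U.1 from hxU) (j ⁻¹ᵁ U.1).2
  have hle : j ''ᵁ V ≤ U.1 := fun _ ⟨y, hy, e⟩ => e ▸ hVU hy
  obtain ⟨hg, hgI⟩ := hU ⟨j ''ᵁ V, hV.image_of_isOpenImmersion j⟩ hle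
  let e := (j.appIso V).commRingCatIsoToRingEquiv
  refine ⟨⟨V, hV⟩, hxV, e (Y.presheaf.map (homOfLE hle).op f), ?_, ?_⟩
  · rw [mem_nonZeroDivisors_iff_right] at hg ⊢
    intro a ha
    refine e.symm.map_eq_zero_iff.1 (hg _ ?_)
    simpa using congrArg e.symm ha
  rw [Scheme.IdealSheafData.ideal_comap_of_isOpenImmersion, hgI]
  refine (Ideal.comap_symm (I := Ideal.span _) e).trans ?_
  rw [Ideal.map_span, Set.image_singleton]

variable {X X' : Scheme.{u}} {b : X' ⟶ X} {J : X.IdealSheafData}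

/-- A morphism to a blow-up agreeing over the base with an open immersion agrees with it. -/
theorem eq_of_comp_eq (hb : BlowUp.IsBlowUp b J) {Y : Scheme.{u}} (g g' : Y ⟶ X') [IsOpenImmersion g]
    (h : g ≫ b = g' ≫ b) : g = g' := by
  have hE : BlowUp.IsEffCartierIdeal (J.comap (g ≫ b)) := by
    rw [Scheme.IdealSheafData.comap_comp]
    exact isEffCartier_comap_open g hb.1
  obtain ⟨k, -, hk⟩ := hb.2 _ _ hE
  exact (hk g rfl).trans (hk g' h.symm).symm

/-- All charts of the blow-up over an affine open, at given generators. -/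
theorem exists_charts (hb : BlowUp.IsBlowUp b J) (U : X.affineOpens) {c : ℕ} (f : Fin c → Γ(X, U.1))
    (hf : J.ideal U = sI f) :
    ∃ C : ∀ k : Fin c, Spec (CommRingCat.of (SC f k)) ⟶ X',
      (∀ k, IsOpenImmersion (C k)) ∧
      (∀ k, C k ≫ b = Spec.map (CommRingCat.ofHom (sh f k)) ≫ U.2.fromSpec) ∧
      ∀ x' : X', b x' ∈ U.1 → ∃ k, x' ∈ Set.range (C k) := by
  let I : Ideal Γ(X, U.1) := sI f
  have hJ : J.comap U.2.fromSpec = idealOf I := by rw [comap_fromSpec, hf]
  have hb₁ : BlowUp.IsBlowUp (reesToSpec I) (J.comap U.2.fromSpec) := hJ ▸ isBlowUp_rees I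
  obtain ⟨k₀, hk, -⟩ := hb.2 _ (reesToSpec I ≫ U.2.fromSpec) (by
    rw [Scheme.IdealSheafData.comap_comp]; exact hb₁.1)
  have hpb := isPullback_of_blowUps U.2.fromSpec hb hb₁ k₀ hk
  haveI : IsOpenImmersion k₀ := MorphismProperty.of_isPullback hpb
    (inferInstance : IsOpenImmersion U.2.fromSpec)
  refine ⟨fun k => chartι I (f k) (mem_pow_one f k) ≫ k₀, fun k => inferInstance, fun k => ?_,
    fun x' hx' => ?_⟩
  · rw [Category.assoc, hk, ← Category.assoc, chartι_reesToSpec]
  · obtain ⟨k, j, hj, hx, hjb⟩ := exists_blowUp_chart b J hb U f hf x' hx'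
    refine ⟨k, ?_⟩
    show x' ∈ Set.range (chartι I (f k) (mem_pow_one f k) ≫ k₀)
    rwa [← eq_of_comp_eq hb j (chartι I (f k) (mem_pow_one f k) ≫ k₀)
      (by rw [hjb, Category.assoc, hk, ← Category.assoc, chartι_reesToSpec])]

/-- Where `f l` generates the ideal, the chart at `l` maps in. -/
theorem exists_lift_away {A B : Type u} [CommRing A] [CommRing B] {c : ℕ} (f : Fin c → A) (l : Fin c)
    (φ : A →+* B) (t : A) (ht : φ t ∈ nonZeroDivisors B) (s : B) (hfl : φ (f l) = φ t * s)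
    (hdiv : ∀ x ∈ sI f, φ t ∣ φ x) :
    ∃ ψ : SC f l →+* Localization.Away s,
      ψ.comp (sh f l) = (algebraMap B (Localization.Away s)).comp φ := by
  have hu : IsUnit (algebraMap B (Localization.Away s) s) := IsLocalization.Away.algebraMap_isUnit _
  have ht' : algebraMap B (Localization.Away s) (φ t) ∈ nonZeroDivisors (Localization.Away s) :=
    IsLocalization.map_nonZeroDivisors_le (Submonoid.powers s) (Localization.Away s) ⟨_, ht, rfl⟩
  refine exists_chart_lift (sI f) (f l) (mem_pow_one f l) _ ?_ fun x hx => ?_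
  · rw [RingHom.comp_apply, hfl, map_mul]
    exact mul_mem ht' hu.mem_nonZeroDivisors
  · obtain ⟨w, hw⟩ := hdiv x hx
    rw [RingHom.comp_apply, RingHom.comp_apply, hfl, hw, map_mul, map_mul]
    exact mul_dvd_mul_left _ hu.dvd

/-- Where `f l` generates, the chart at `l` contains the chart at `m`. -/
theorem mem_range_chart (hb : BlowUp.IsBlowUp b J) {A : Type u} [CommRing A] {c : ℕ} (f : Fin c → A)
    (p : Spec (CommRingCat.of A) ⟶ X) (m l : Fin c) (jm : Spec (CommRingCat.of (SC f m)) ⟶ X')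
    [IsOpenImmersion jm] (hm : jm ≫ b = Spec.map (CommRingCat.ofHom (sh f m)) ≫ p)
    (jl : Spec (CommRingCat.of (SC f l)) ⟶ X')
    (hl : jl ≫ b = Spec.map (CommRingCat.ofHom (sh f l)) ≫ p)
    (z : Spec (CommRingCat.of (SC f m))) (hz : sfr f m l ∉ z.asIdeal) :
    jm z ∈ Set.range jl := by
  let L := Localization.Away (sfr f m l)
  obtain ⟨ψ, hψ⟩ := exists_lift_away f l (sh f m) (f m)
    (chartHom_nonZeroDivisor (sI f) (f m) (mem_pow_one f m)) (sfr f m l)
    (chartHom_eq (sI f) (f m) (mem_pow_one f m) (f l) (mem_pow_one f l))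
    (fun x hx => ⟨_, chartHom_eq (sI f) (f m) (mem_pow_one f m) x (by rwa [pow_one])⟩)
  let loc := Spec.map (CommRingCat.ofHom (algebraMap (SC f m) L))
  haveI : IsOpenImmersion loc := IsOpenImmersion.of_isLocalization (S := L) (sfr f m l)
  have heq : loc ≫ jm = Spec.map (CommRingCat.ofHom ψ) ≫ jl := by
    refine eq_of_comp_eq hb _ _ ?_
    rw [Category.assoc, hm, Category.assoc, hl, ← Spec.map_comp_assoc, ← Spec.map_comp_assoc,
      ← CommRingCat.ofHom_comp, ← CommRingCat.ofHom_comp, hψ]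
  obtain ⟨y, rfl⟩ : z ∈ Set.range loc :=
    (PrimeSpectrum.localization_away_comap_range L (sfr f m l)).ge hz
  exact ⟨Spec.map (CommRingCat.ofHom ψ) y, by
    rw [← Scheme.Hom.comp_apply, ← heq, Scheme.Hom.comp_apply]⟩

end Groth.L11.BlowProj
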