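import Groth.Agent.L11.BlowProj.Theta
import Groth.Agent.L11.BlowProj.Charts
import Groth.Agent.L11.BlowPerfect.Alg
import Groth.Agent.L19.ProjBdl.Chart

/-!
# The blow-up in a Koszul-regular ideal inside the projective bundle
-/

set_option autoImplicit false
set_option linter.style.haveILetI false
set_option backward.isDefEq.respectTransparency false
set_option backward.isDefEq.respectTransparency.types false

universe u

open CategoryTheory CategoryTheory.Limits AlgebraicGeometry TopologicalSpace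
open Groth.L11.BlowSmooth Groth.L13.BU
open Groth.L19.ProjBdl (locus crd locus_le le_locus isFrame_locus crd_smul crd_self IsBasisOn Acrd ratio)
open Groth.L18.Frame (rs ro rs_rs ro_ro rs_smul ro_self rs_self)

namespace Groth.L11.BlowProj

theorem appLE_bijective_of_range {Y Z : Scheme.{u}} (g : Y ⟶ Z) [IsOpenImmersion g] (W : Z.Opens)
    (hW : g.opensRange = W) (h : ⊤ ≤ g ⁻¹ᵁ W) : Function.Bijective (g.appLE W ⊤ h).hom := by
  haveI : IsIso (g.app W) := g.isIso_app W hW.ge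
  have e : g ⁻¹ᵁ W = ⊤ := top_le_iff.1 h
  haveI : IsIso (Y.presheaf.map (homOfLE h).op) := by
    rw [Subsingleton.elim (homOfLE h) (eqToHom e.symm), eqToHom_op]
    infer_instance
  exact (ConcreteCategory.isIso_iff_bijective (g.app W ≫ Y.presheaf.map (homOfLE h).op)).1 inferInstance

variable {X X' P : Scheme.{u}} {E : X.Modules} (φ : E ⟶ Coh.structureModule X)
  {O1 : P.Modules} {π : P ⟶ X} (q : (Scheme.Modules.pullback π).obj E ⟶ O1)
  (j : X' ⟶ P) (f : X' ⟶ X) (hjπ : j ≫ π = f)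
  (θ : (Scheme.Modules.pullback j).obj O1 ⟶ Coh.structureModule X')
  {V : X.Opens} {n : ℕ} (b : Fin n → Γ(E, V))

/-- The defining relation between `θ` and the map to the structure sheaf. -/
def Compatible : Prop :=
  (Scheme.Modules.pullbackCongr hjπ).inv.app E ≫ (Scheme.Modules.pullbackComp j π).inv.app E ≫
        (Scheme.Modules.pullback j).map q ≫ θ =
      (Scheme.Modules.pullback f).map φ ≫
        ((Scheme.Modules.pullbackPushforwardAdjunction f).homEquiv _ _).symm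
          (SheafOfModules.unitToPushforwardObjUnit f.toRingCatSheafHom)

theorem basicOpen_le_locus (p o : Fin n) : P.basicOpen (crd π q b p o) ≤ locus π q b o := by
  have hB := P.basicOpen_le (crd π q b p o)
  refine le_locus π q b (hB.trans (locus_le π q b p)) ?_
  have := ((isFrame_locus π q b p).mono hB).smul_unit
    (show IsUnit (ro hB (crd π q b p o)) from RingedSpace.isUnit_res_basicOpen P.toRingedSpace _)
  rwa [← rs_smul, crd_smul, rs_rs] at this

theorem appLE_fromSpec {R : Type u} [CommRing R] (hV : IsAffineOpen V) (φA : Γ(X, V) →+* R)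
    (h : ⊤ ≤ (Spec.map (CommRingCat.ofHom φA) ≫ hV.fromSpec) ⁻¹ᵁ V) :
    (Spec.map (CommRingCat.ofHom φA) ≫ hV.fromSpec).appLE V ⊤ h =
      CommRingCat.ofHom φA ≫ (Scheme.ΓSpecIso (CommRingCat.of R)).inv := by
  rw [← Scheme.Hom.appLE_comp_appLE _ hV.fromSpec V ⊤ ⊤ hV.fromSpec_preimage_self.ge le_top]
  have h4 : hV.fromSpec.appLE V ⊤ hV.fromSpec_preimage_self.ge = (Scheme.ΓSpecIso Γ(X, V)).inv := by
    rw [Scheme.Hom.appLE, hV.fromSpec_app_self, Category.assoc, ← Functor.map_comp]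
    exact (congrArg ((Scheme.ΓSpecIso Γ(X, V)).inv ≫ ·) ((Spec Γ(X, V)).presheaf.map_id _)).trans
      (Category.comp_id _)
  rw [h4, Scheme.ΓSpecIso_inv_naturality]
  congr 1

variable {φ q j f hjπ θ}

theorem pulled_rel (hc : Compatible φ q j f hjπ θ) (hV : IsAffineOpen V) {R : Type u} [CommRing R]
    (g : Spec (CommRingCat.of R) ⟶ X') (φA : Γ(X, V) →+* R)
    (hg : g ≫ f = Spec.map (CommRingCat.ofHom φA) ≫ hV.fromSpec) (p i : Fin n)
    (hW : ⊤ ≤ (g ≫ j) ⁻¹ᵁ locus π q b p) :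
    (Scheme.ΓSpecIso (CommRingCat.of R)).hom ((g ≫ j).appLE _ ⊤ hW (crd π q b p i)) *
      φA (vals φ b p) = φA (vals φ b i) := by
  let W : X'.Opens := j ⁻¹ᵁ locus π q b p
  have hWV : W ≤ f ⁻¹ᵁ V := by
    rw [← hjπ]
    exact j.preimage_mono (locus_le π q b p)
  have e := crd_mul φ j π f hjπ q θ hc b p i W le_rfl hWV
  have hgW : ⊤ ≤ g ⁻¹ᵁ W := hW
  have e' := congrArg (fun x => (Scheme.ΓSpecIso (CommRingCat.of R)).hom ((g.appLE W ⊤ hgW) x)) e
  simp only [map_mul, ← CommRingCat.comp_apply, Scheme.Hom.appLE_comp_appLE] at e'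
  have hval : ∀ a : Γ(X, V), (Scheme.ΓSpecIso (CommRingCat.of R)).hom
      ((g ≫ f).appLE V ⊤ (hgW.trans (g.preimage_mono hWV)) a) = φA a := fun a => by
    simp only [hg]
    rw [appLE_fromSpec hV φA, CommRingCat.comp_apply]
    exact Iso.inv_hom_id_apply (Scheme.ΓSpecIso (CommRingCat.of R)) _
  rwa [hval, hval] at e'

/-- If `φ a_p = φ a_o * s` on an affine mapping to the locus of `p`, then `s` is a unit and the
image lies in the locus of `o`. -/
theorem step (hc : Compatible φ q j f hjπ θ) (hV : IsAffineOpen V) {B : Type u} [CommRing B]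
    (c : Spec (CommRingCat.of B) ⟶ X') (φA : Γ(X, V) →+* B)
    (hcf : c ≫ f = Spec.map (CommRingCat.ofHom φA) ≫ hV.fromSpec) (o p : Fin n)
    (hnzd : φA (vals φ b o) ∈ nonZeroDivisors B) (s : B) (hs : φA (vals φ b p) = φA (vals φ b o) * s)
    (z : Spec (CommRingCat.of B)) (hz : j (c z) ∈ locus π q b p) :
    s ∉ z.asIdeal ∧ j (c z) ∈ locus π q b o := by
  obtain ⟨_, ⟨_, ⟨h, rfl⟩, rfl⟩, hzh, hle⟩ := PrimeSpectrum.isBasis_basic_opens.exists_subset_of_mem_open
    (show z ∈ (c ≫ j) ⁻¹ᵁ locus π q b p from hz) ((c ≫ j) ⁻¹ᵁ locus π q b p).2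
  let R := Localization.Away h
  let loc := Spec.map (CommRingCat.ofHom (algebraMap B R))
  have hrange := PrimeSpectrum.localization_away_comap_range R h
  obtain ⟨y, rfl⟩ : z ∈ Set.range loc := hrange.ge hzh
  have hW : ⊤ ≤ ((loc ≫ c) ≫ j) ⁻¹ᵁ locus π q b p := fun w _ => by
    show ((loc ≫ c) ≫ j) w ∈ locus π q b p
    rw [Category.assoc, Scheme.Hom.comp_apply]
    exact hle (hrange.le ⟨w, rfl⟩)
  have hrel := pulled_rel b hc hV (loc ≫ c) ((algebraMap B R).comp φA)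
    (by rw [Category.assoc, hcf, ← Spec.map_comp_assoc, ← CommRingCat.ofHom_comp]) p o hW
  set ρ := (Scheme.ΓSpecIso (CommRingCat.of R)).hom (((loc ≫ c) ≫ j).appLE _ ⊤ hW (crd π q b p o))
  simp only [RingHom.comp_apply, hs, map_mul] at hrel
  have ho : algebraMap B R (φA (vals φ b o)) ∈ nonZeroDivisors R :=
    IsLocalization.map_nonZeroDivisors_le (Submonoid.powers h) R ⟨_, hnzd, rfl⟩
  have h1 : ρ * algebraMap B R s = 1 := by
    refine (mul_cancel_left_mem_nonZeroDivisors ho).1 ?_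
    rw [mul_one]
    linear_combination hrel
  refine ⟨fun hmem => y.2.ne_top ((Ideal.eq_top_iff_one _).2 ?_), ?_⟩
  · rw [← h1]
    exact Ideal.mul_mem_left _ _ hmem
  · refine basicOpen_le_locus q b p o ?_
    show j (c (loc y)) ∈ _
    have hu : IsUnit (((loc ≫ c) ≫ j).appLE _ ⊤ hW (crd π q b p o)) := by
      have := (IsUnit.of_mul_eq_one _ h1).map (Scheme.ΓSpecIso (CommRingCat.of R)).inv.hom
      rwa [Iso.hom_inv_id_apply] at this
    have hy : y ∈ ((loc ≫ c) ≫ j) ⁻¹ᵁ P.basicOpen (crd π q b p o) := by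
      rw [Scheme.preimage_basicOpen]
      refine ((Spec (CommRingCat.of R)).mem_basicOpen _ y (hW trivial)).2 ?_
      have h2 := hu.map ((Spec (CommRingCat.of R)).presheaf.germ ⊤ y trivial).hom
      rwa [Scheme.Hom.appLE, CommRingCat.comp_apply, TopCat.Presheaf.germ_res_apply] at h2
    exact hy

omit φ q θ b in
/-- Sections over two charts intertwined by a map of rings. -/
theorem exists_ringEquivs {Z W : Scheme.{u}} (g : Z ⟶ W) (L : W.Opens) {A B : Type u} [CommRing A] [CommRing B]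
    (c : Spec (CommRingCat.of B) ⟶ Z) [IsOpenImmersion c] (hc : c.opensRange = g ⁻¹ᵁ L)
    (hW1 : ⊤ ≤ (c ≫ g) ⁻¹ᵁ L)
    (χ : Spec (CommRingCat.of A) ⟶ W) [IsOpenImmersion χ] (hχ : χ.opensRange = L) (hχW : ⊤ ≤ χ ⁻¹ᵁ L)
    (ρ : A →+* B) (hsq : c ≫ g = Spec.map (CommRingCat.ofHom ρ) ≫ χ) :
    ∃ (χ' : Γ(W, L) ≃+* A) (c' : Γ(Z, g ⁻¹ᵁ L) ≃+* B), ∀ x, c' (g.app L x) = ρ (χ' x) := by
  refine ⟨(RingEquiv.ofBijective (χ.appLE L ⊤ hχW).hom (appLE_bijective_of_range χ L hχ hχW)).trans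
      (Scheme.ΓSpecIso (CommRingCat.of A)).commRingCatIsoToRingEquiv,
    (RingEquiv.ofBijective (c.appLE (g ⁻¹ᵁ L) ⊤ hW1).hom
      (appLE_bijective_of_range c _ hc hW1)).trans
      (Scheme.ΓSpecIso (CommRingCat.of B)).commRingCatIsoToRingEquiv, fun x => ?_⟩
  show (Scheme.ΓSpecIso (CommRingCat.of B)).hom ((c.appLE (g ⁻¹ᵁ L) ⊤ hW1) (g.app L x)) =
    ρ ((Scheme.ΓSpecIso (CommRingCat.of A)).hom (χ.appLE L ⊤ hχW x))
  rw [Scheme.Hom.app_eq_appLE, ← CommRingCat.comp_apply (g.appLE L (g ⁻¹ᵁ L) le_rfl),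
    Scheme.Hom.appLE_comp_appLE]
  simp only [hsq]
  rw [← Scheme.Hom.appLE_comp_appLE _ χ L ⊤ ⊤ hχW le_top, CommRingCat.comp_apply,
    show (Spec.map (CommRingCat.ofHom ρ)).appLE ⊤ ⊤ le_top =
      (Spec.map (CommRingCat.ofHom ρ)).appTop from (Scheme.Hom.app_eq_appLE _).symm]
  exact congr($(Scheme.ΓSpecIso_naturality (CommRingCat.ofHom ρ)) (χ.appLE L ⊤ hχW x))

omit φ q θ b in
theorem eq_inv_of_hom_eq (B : Type u) [CommRing B] (z : Γ(Spec (CommRingCat.of B), ⊤)) (w : B)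
    (h : (Scheme.ΓSpecIso (CommRingCat.of B)).hom z = w) :
    z = (Scheme.ΓSpecIso (CommRingCat.of B)).inv w := by
  rw [← h, Iso.hom_inv_id_apply]

omit φ q θ b in
theorem appLE_comp_inv {W : Scheme.{u}} {A B : Type u} [CommRing A] [CommRing B] (ρ : A →+* B)
    (χ : Spec (CommRingCat.of A) ⟶ W) (L : W.Opens) (hχW : ⊤ ≤ χ ⁻¹ᵁ L)
    (h : ⊤ ≤ (Spec.map (CommRingCat.ofHom ρ) ≫ χ) ⁻¹ᵁ L) (x : Γ(W, L)) (y : A)
    (hx : χ.appLE L ⊤ hχW x = (Scheme.ΓSpecIso (CommRingCat.of A)).inv y) :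
    (Spec.map (CommRingCat.ofHom ρ) ≫ χ).appLE L ⊤ h x = (Scheme.ΓSpecIso (CommRingCat.of B)).inv (ρ y) := by
  rw [← Scheme.Hom.appLE_comp_appLE _ χ L ⊤ ⊤ hχW le_top, CommRingCat.comp_apply, hx]
  have h2 : (Spec.map (CommRingCat.ofHom ρ)).appLE ⊤ ⊤ le_top =
      (Spec.map (CommRingCat.ofHom ρ)).appTop := (Scheme.Hom.app_eq_appLE _).symm
  rw [h2, ← CommRingCat.comp_apply, ← Scheme.ΓSpecIso_inv_naturality, CommRingCat.comp_apply]
  rfl

omit φ q θ b in
/-- The kernel of a map in two presentations. -/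
theorem exists_presentation {R S A B Q : Type u} [CommRing R] [CommRing S] [CommRing A] [CommRing B]
    [CommRing Q] (ψ : R →+* S) (χ' : R ≃+* A) (c' : S ≃+* B) (ρ : A →+* B)
    (h : ∀ x, c' (ψ x) = ρ (χ' x)) (e' : Q ≃+* A) (ev : Q →+* B) (he : ∀ F, ρ (e' F) = ev F) :
    ∃ τ : Q ≃+* R, RingHom.ker ψ = (RingHom.ker ev).map τ.toRingHom := by
  refine ⟨e'.trans χ'.symm, Ideal.ext fun x => ?_⟩
  obtain ⟨F, rfl⟩ := (e'.trans χ'.symm).surjective x
  have hF : c' (ψ ((e'.trans χ'.symm) F)) = ev F := by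
    rw [h, ← he]; exact congrArg ρ (χ'.apply_symm_apply _)
  have hmem : ((e'.trans χ'.symm) F) ∈ (RingHom.ker ev).map (e'.trans χ'.symm).toRingHom ↔
      F ∈ RingHom.ker ev := Ideal.apply_mem_of_equiv_iff (f := e'.trans χ'.symm)
  rw [hmem, RingHom.mem_ker, RingHom.mem_ker, ← hF, map_eq_zero_iff _ c'.injective]

/-- The chart data of `j` over the locus of the `l`-th coordinate. -/
theorem piece {m : ℕ} (bb : Fin (m + 1) → Γ(E, V)) (hb : IsBasisOn E V bb)
    (hPB : KRR.IsProjBundle π E O1 q) (hc : Compatible φ q j f hjπ θ) (hV : IsAffineOpen V)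
    (J : X.IdealSheafData) (hf : BlowUp.IsBlowUp f J)
    (hJ : J.ideal ⟨V, hV⟩ = sI (vals φ bb))
    (hreg : LCI.IsKoszulRegularSeq Γ(X, V) (List.ofFn (vals φ bb))) (l : Fin (m + 1)) :
    IsClosedImmersion (j ∣_ locus π q bb l) ∧
      ∃ rs : List Γ(P, locus π q bb l), rs.length = m ∧ LCI.IsKoszulRegularSeq _ rs ∧
        RingHom.ker (j.app (locus π q bb l)).hom = Ideal.ofList rs := by
  let a := vals φ bb
  obtain ⟨C, hCo, hCf, hcov⟩ := exists_charts hf ⟨V, hV⟩ a hJ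
  let L := locus π q bb l
  have hcov' : ∀ x, x ∈ j ⁻¹ᵁ L → f x ∈ V := fun x hx => by
    rw [← hjπ, Scheme.Hom.comp_apply]
    exact locus_le π q bb l hx
  -- the chart is the preimage of the locus
  have hrange : (C l).opensRange = j ⁻¹ᵁ L := by
    refine le_antisymm ?_ fun x hx => ?_
    · rintro _ ⟨z, rfl⟩
      have hV' : f (C l z) ∈ V := by
        rw [← Scheme.Hom.comp_apply, hCf, Scheme.Hom.comp_apply]
        exact hV.range_fromSpec.le ⟨_, rfl⟩
      haveI := hPB.epi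
      obtain ⟨p, hp⟩ := Groth.L19.ProjBdl.exists_mem_locus π q bb hPB.invertible hb
        (show j (C l z) ∈ π ⁻¹ᵁ V by
          show π (j (C l z)) ∈ V
          rwa [← Scheme.Hom.comp_apply, hjπ])
      exact (step bb hc hV (C l) (sh a l) (hCf l) l p
        (chartHom_nonZeroDivisor (sI a) (a l) (mem_pow_one a l)) (sfr a l p)
        (chartHom_eq (sI a) (a l) (mem_pow_one a l) (a p) (mem_pow_one a p)) z hp).2
    · obtain ⟨k, z, rfl⟩ := hcov x (hcov' x hx)
      have hz := (step bb hc hV (C k) (sh a k) (hCf k) k l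
        (chartHom_nonZeroDivisor (sI a) (a k) (mem_pow_one a k)) (sfr a k l)
        (chartHom_eq (sI a) (a k) (mem_pow_one a k) (a l) (mem_pow_one a l)) z hx).1
      haveI := hCo k
      exact mem_range_chart hf a hV.fromSpec k l (C k) (hCf k) (C l) (hCf l) z hz
  haveI := hCo l
  obtain ⟨χ, hχo, hχW, hχr, hχp, hχc⟩ := Groth.L19.ProjBdl.exists_chart hPB hb hV l
  let ρ : Acrd V l →+* SC a l := MvPolynomial.eval₂Hom (sh a l) fun i => sfr a l i.1
  have hρr : ∀ i, ρ (ratio V l i) = sfr a l i := fun i => by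
    rw [ratio]
    split_ifs with h
    · subst h; rw [map_one]; exact (ev_X_self a i).symm.trans (MvPolynomial.eval₂Hom_X' _ _ _)
    · rw [MvPolynomial.eval₂Hom_X']
  have hW1 : ⊤ ≤ (C l ≫ j) ⁻¹ᵁ L := fun z _ => hrange.le ⟨z, rfl⟩
  have hW2 : ⊤ ≤ (Spec.map (CommRingCat.ofHom ρ) ≫ χ) ⁻¹ᵁ L := fun z _ => hχW trivial
  -- the morphism on the chart
  have hsq : C l ≫ j = Spec.map (CommRingCat.ofHom ρ) ≫ χ := by
    refine Groth.L19.ProjBdl.hom_ext hPB hb (l := l) ?_ hW1 hW2 fun i => ?_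
    · rw [Category.assoc, hjπ, hCf, Category.assoc, hχp, ← Spec.map_comp_assoc, ← CommRingCat.ofHom_comp,
        show ρ.comp MvPolynomial.C = sh a l from MvPolynomial.eval₂Hom_comp_C _ _]
    · have h1 := pulled_rel bb hc hV (C l) (sh a l) (hCf l) l i hW1
      replace h1 := (mul_cancel_left_mem_nonZeroDivisors
        (chartHom_nonZeroDivisor (sI a) (a l) (mem_pow_one a l))).1
        (((mul_comm _ _).trans h1).trans (chartHom_eq (sI a) (a l) (mem_pow_one a l) (a i) (mem_pow_one a i)))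
      exact (eq_inv_of_hom_eq _ _ _ (h1.trans (hρr i).symm)).trans
        (appLE_comp_inv ρ χ L hχW hW2 _ _ (hχc i)).symm
  let e : Fin m ≃ {i : Fin (m + 1) // i ≠ l} := finSuccAboveEquiv l
  have hρe : ∀ F, ρ (MvPolynomial.rename e F) = BlowPerfect.chartEv a l F := fun F => by
    induction F using MvPolynomial.induction_on with
    | C r => simp [ρ, BlowPerfect.chartEv]
    | add p q hp hq => simp only [map_add, hp, hq]
    | mul_X p i hp =>
      simp only [map_mul, hp]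
      congr 1
      simp [ρ, BlowPerfect.chartEv, e]
      rfl
  have hρs : Function.Surjective ρ := fun y => by
    obtain ⟨F, hF⟩ := BlowPerfect.chartEv_surjective a l y
    exact ⟨_, (hρe F).trans hF⟩
  refine ⟨?_, ?_⟩
  · let e1 := IsOpenImmersion.isoOfRangeEq (C l) (j ⁻¹ᵁ L).ι (by
      rw [Scheme.Opens.range_ι, ← hrange]; rfl)
    let e2 := IsOpenImmersion.isoOfRangeEq χ L.ι (by
      rw [Scheme.Opens.range_ι]; exact congrArg SetLike.coe hχr)
    have hfac : e1.hom ≫ (j ∣_ L) = Spec.map (CommRingCat.ofHom ρ) ≫ e2.hom := by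
      rw [← cancel_mono L.ι, Category.assoc, morphismRestrict_ι, ← Category.assoc,
        IsOpenImmersion.isoOfRangeEq_hom_fac, Category.assoc, IsOpenImmersion.isoOfRangeEq_hom_fac, hsq]
    haveI : IsClosedImmersion (Spec.map (CommRingCat.ofHom ρ)) :=
      IsClosedImmersion.spec_of_surjective _ hρs
    have : j ∣_ L = e1.inv ≫ Spec.map (CommRingCat.ofHom ρ) ≫ e2.hom := by
      rw [← hfac, Iso.inv_hom_id_assoc]
    rw [this]
    infer_instance
  · obtain ⟨χ', C', hcomm⟩ := exists_ringEquivs j L (C l) hrange hW1 χ hχr hχW ρ hsq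
    obtain ⟨τ, hτ⟩ := exists_presentation (j.app L).hom χ' C' ρ hcomm
      (MvPolynomial.renameEquiv Γ(X, V) e).toRingEquiv (BlowPerfect.chartEv a l) hρe
    refine ⟨(List.ofFn (BlowPerfect.rel a l)).map τ.toRingHom, by simp, ?_, ?_⟩
    · exact Groth.L07.KoszulFlat.isKoszulRegularSeq_map τ.toRingHom
        (RingHom.Flat.of_bijective τ.bijective) _ (BlowPerfect.rel_regular a l hreg).1
    · rw [← Ideal.map_ofList, ← BlowPerfect.chartEv_ker a l hreg]
      exact hτ

end Groth.L11.BlowProj
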