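import Groth.Agent.L19.ProjBdl.Basis
import Groth.Agent.L16.QCohSections
import Groth.Agent.L18.LocFreeFP
import Groth.Agent.L07.KoszulDescent
import Mathlib.LinearAlgebra.InvariantBasisNumber

/-!
# Local bases with Koszul-regular image

If the image of a basis of sections over an affine open is Koszul-regular, so is the image of any
local basis on smaller basic opens.
-/

set_option autoImplicit false
set_option linter.style.haveILetI false
set_option backward.isDefEq.respectTransparency false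
set_option backward.isDefEq.respectTransparency.types false

universe u

open CategoryTheory AlgebraicGeometry TopologicalSpace Opposite

namespace Groth.L11.BlowProj

open Groth.L19.ProjBdl
open Groth.L18.Frame (rs ro rs_rs ro_ro rs_smul ro_self rs_self)

variable {X : Scheme.{u}} {E : X.Modules} (φ : E ⟶ Coh.structureModule X)

/-- The value of the map at a section, as a function. -/
noncomputable def val {V : X.Opens} (s : Γ(E, V)) : Γ(X, V) := φ.app V s

/-- The values of the map on a family of sections. -/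
noncomputable def vals {V : X.Opens} {n : ℕ} (b : Fin n → Γ(E, V)) (i : Fin n) : Γ(X, V) :=
  val φ (b i)

theorem app_sum_smul {V : X.Opens} {n : ℕ} (b : Fin n → Γ(E, V)) (r : Fin n → Γ(X, V)) :
    val φ (∑ i, r i • b i) = ∑ i, r i * vals φ b i := by
  refine (map_sum (φ.app V).hom _ _).trans ?_
  refine Finset.sum_congr rfl fun i _ => ?_
  exact Scheme.Modules.Hom.app_smul φ _ _

theorem val_rs {U V : X.Opens} (h : V ≤ U) (s : Γ(E, U)) :
    val φ (rs E h s) = ro h (val φ s) :=
  congr($(φ.mapPresheaf.naturality (homOfLE h).op) s)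

theorem span_range_eq {V : X.Opens} {n : ℕ} (b : Fin n → Γ(E, V))
    (hsp : ∀ s : Γ(E, V), ∃ r : Fin n → Γ(X, V), ∑ i, r i • b i = s) :
    Ideal.span (Set.range fun s : Γ(E, V) => val φ s) =
      Ideal.span (Set.range (vals φ b)) := by
  refine le_antisymm (Ideal.span_le.2 ?_) (Ideal.span_mono ?_)
  · rintro _ ⟨s, rfl⟩
    obtain ⟨r, rfl⟩ := hsp s
    show val φ (∑ i, r i • b i) ∈ _
    rw [app_sum_smul]
    exact Ideal.sum_mem _ fun i _ => Ideal.mul_mem_left _ _ (Ideal.subset_span ⟨i, rfl⟩)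
  · rintro _ ⟨i, rfl⟩
    exact ⟨b i, rfl⟩

/-- Near a point of an affine open with a Koszul-regular basis, every local basis restricts to one
whose image is Koszul-regular. -/
theorem exists_koszul_restrict [Coh.IsQCoh E] (J : X.IdealSheafData)
    (hJ : ∀ U : X.affineOpens, J.ideal U =
      Ideal.span (Set.range fun s : Γ(E, U.1) => val φ s))
    (U : X.affineOpens) {c : ℕ} (bU : Module.Basis (Fin c) Γ(X, U.1) Γ(E, U.1))
    (hreg : LCI.IsKoszulRegularSeq Γ(X, U.1) (List.ofFn (vals φ bU)))
    {V₀ : X.Opens} {n : ℕ} (b₀ : Fin n → Γ(E, V₀)) (hb₀ : IsBasisOn E V₀ b₀)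
    (x : X) (hxU : x ∈ U.1) (hx₀ : x ∈ V₀) :
    ∃ (V : X.affineOpens) (b : Fin n → Γ(E, V.1)), x ∈ V.1 ∧ IsBasisOn E V.1 b ∧
      LCI.IsKoszulRegularSeq Γ(X, V.1) (List.ofFn (vals φ b)) ∧
      J.ideal V = Ideal.span (Set.range (vals φ b)) := by
  obtain ⟨g, hg, hxg⟩ := U.2.exists_basicOpen_le (V := V₀) ⟨x, hx₀⟩ hxU
  let D := X.basicOpen g
  have hDU : D ≤ U.1 := X.basicOpen_le g
  let V : X.affineOpens := ⟨D, U.2.basicOpen g⟩
  let b : Fin n → Γ(E, D) := fun i => rs E hg (b₀ i)
  have hb : IsBasisOn E D b := hb₀.mono hg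
  let bD : Fin c → Γ(E, D) := fun i => rs E hDU (bU i)
  have hlc : ∀ r : Fin n → Γ(X, D), lc E b le_rfl r = ∑ i, r i • b i := fun r =>
    Finset.sum_congr rfl fun i _ => by rw [rs_self]
  have hspD : ∀ s : Γ(E, D), ∃ r : Fin c → Γ(X, D), ∑ i, r i • bD i = s := by
    intro s
    obtain ⟨k, t, ht⟩ := Groth.L16.QCohSect.exists_pow_smul_eq_res U.2 E g s
    obtain ⟨w, hw⟩ : IsUnit (ro hDU (g ^ k)) := by
      show IsUnit (X.presheaf.map _ _)
      rw [map_pow]
      exact (RingedSpace.isUnit_res_basicOpen X.toRingedSpace g).pow k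
    refine ⟨fun i => (↑w⁻¹ : Γ(X, D)) * ro hDU (bU.repr t i), ?_⟩
    simp only [mul_smul, ← Finset.smul_sum]
    rw [show (∑ i, ro hDU (bU.repr t i) • bD i) = rs E hDU t by
      conv_rhs => rw [← bU.sum_repr t, rs_sum]
      exact Finset.sum_congr rfl fun i _ => (rs_smul _ _ _ _).symm]
    rw [ht, ← hw, smul_smul, Units.inv_mul, one_smul]
  have hspb : ∀ s : Γ(E, D), ∃ r : Fin n → Γ(X, D), ∑ i, r i • b i = s := fun s => by
    obtain ⟨r, hr⟩ := (hb D le_rfl).2 s
    exact ⟨r, by rw [← hlc, hr]⟩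
  haveI : Nontrivial Γ(X, D) :=
    (X.presheaf.germ D x hxg).hom.domain_nontrivial
  have hle : n ≤ c := by
    let e : (Fin n → Γ(X, D)) ≃ₗ[Γ(X, D)] Γ(E, D) :=
      LinearEquiv.ofBijective (Fintype.linearCombination Γ(X, D) b)
        (by
          have := hb D le_rfl
          convert this using 1
          funext r
          exact (hlc r).symm)
    let L : (Fin c → Γ(X, D)) →ₗ[Γ(X, D)] (Fin n → Γ(X, D)) :=
      e.symm.toLinearMap.comp (Fintype.linearCombination Γ(X, D) bD)
    exact le_of_fin_surjective Γ(X, D) L (e.symm.surjective.comp fun s => hspD s)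
  have hIb : J.ideal V = Ideal.span (Set.range (vals φ b)) := by
    rw [hJ V]; exact span_range_eq φ b hspb
  have hID : J.ideal V = Ideal.span (Set.range (vals φ bD)) := by
    rw [hJ V]; exact span_range_eq φ bD hspD
  refine ⟨V, b, hxg, hb, ?_, hIb⟩
  have hflat : (X.presheaf.map (homOfLE hDU).op).hom.Flat := by
    haveI := U.2.isLocalization_basicOpen g
    letI := (X.presheaf.map (homOfLE hDU).op).hom.toAlgebra
    exact IsLocalization.flat Γ(X, D) (Submonoid.powers g)
  have h1 := Groth.L07.KoszulFlat.isKoszulRegularSeq_map _ hflat _ hreg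
  rw [List.map_ofFn] at h1
  have he : ((X.presheaf.map (homOfLE hDU).op).hom ∘ vals φ bU) = vals φ bD := funext fun i =>
    (val_rs φ hDU (bU i)).symm
  rw [he] at h1
  refine Groth.L07.KoszulDescent.isKoszulRegularSeq_of_length_le h1 ?_ (by simpa using hle)
  have hoL : ∀ {m : ℕ} (v : Fin m → Γ(X, D)), Ideal.ofList (List.ofFn v) = Ideal.span (Set.range v) :=
    fun v => congrArg Ideal.span (Set.ext fun y => by simp [List.mem_ofFn])
  rw [hoL, hoL, ← hID, hIb]

end Groth.L11.BlowProj
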