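import Groth.Agent.L11.BlowProj.Main
import Groth.Prelude.Def_RegImm

/-!
# The blow-up in the projective bundle: closed Koszul-regular immersion
-/

set_option autoImplicit false
set_option linter.style.haveILetI false
set_option backward.isDefEq.respectTransparency false
set_option backward.isDefEq.respectTransparency.types false

universe u

open CategoryTheory CategoryTheory.Limits AlgebraicGeometry TopologicalSpace Opposite
open Groth.L11.BlowSmooth
open Groth.L19.ProjBdl (locus exists_mem_locus IsBasisOn)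

namespace Groth.L11.BlowProj

variable {X X' P : Scheme.{u}} {E : X.Modules} (φ : E ⟶ Coh.structureModule X)

/-- The local input: bases near every point with Koszul-regular image generating `J`. -/
theorem exists_koszul_bases (hE : FlatMod.IsFinLocFree E)
    (hu : ∀ x : X, ∃ U : X.affineOpens, x ∈ U.1 ∧
      ∃ (n : ℕ) (b : Module.Basis (Fin n) Γ(X, U.1) (E.val.obj (op U.1))),
        LCI.IsKoszulRegularSeq Γ(X, U.1) (List.ofFn fun k => ((φ.val.app (op U.1)).hom (b k) : Γ(X, U.1))))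
    (J : X.IdealSheafData) (hJ : ∀ U : X.affineOpens, J.ideal U =
      @Ideal.span Γ(X, U.1) _ (Set.range fun s : E.val.obj (op U.1) => ((φ.val.app (op U.1)).hom s : Γ(X, U.1))))
    {V₀ : X.Opens} {n : ℕ} (b₀ : Fin n → Γ(E, V₀)) (hb₀ : IsBasisOn E V₀ b₀) (x : X) (hx : x ∈ V₀) :
    ∃ (V : X.affineOpens) (b : Fin n → Γ(E, V.1)), x ∈ V.1 ∧ IsBasisOn E V.1 b ∧
      LCI.IsKoszulRegularSeq Γ(X, V.1) (List.ofFn (vals φ b)) ∧ J.ideal V = sI (vals φ b) := by
  haveI : Coh.IsQCoh E := by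
    obtain ⟨d, -⟩ := (Groth.L18.LFP.isFP_of_isFinLocFree E hE).exists_quasicoherentData
    exact SheafOfModules.IsQuasicoherent.mk (R := X.ringCatSheaf) (M := E) ⟨d⟩
  obtain ⟨U, hxU, c, bU, hreg⟩ := hu x
  exact exists_koszul_restrict φ J hJ U bU hreg b₀ hb₀ x hxU hx

variable {φ} {π : P ⟶ X} {O1 : P.Modules} {q : (Scheme.Modules.pullback π).obj E ⟶ O1}
  {j : X' ⟶ P} {f : X' ⟶ X} {hjπ : j ≫ π = f}
  {θ : (Scheme.Modules.pullback j).obj O1 ⟶ Coh.structureModule X'}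

/-- The pieces around each point of `P`. -/
theorem exists_piece (hE : FlatMod.IsFinLocFree E)
    (hu : ∀ x : X, ∃ U : X.affineOpens, x ∈ U.1 ∧
      ∃ (n : ℕ) (b : Module.Basis (Fin n) Γ(X, U.1) (E.val.obj (op U.1))),
        LCI.IsKoszulRegularSeq Γ(X, U.1) (List.ofFn fun k => ((φ.val.app (op U.1)).hom (b k) : Γ(X, U.1))))
    (J : X.IdealSheafData) (hJ : ∀ U : X.affineOpens, J.ideal U =
      @Ideal.span Γ(X, U.1) _ (Set.range fun s : E.val.obj (op U.1) => ((φ.val.app (op U.1)).hom s : Γ(X, U.1))))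
    (hPB : KRR.IsProjBundle π E O1 q) (hf : BlowUp.IsBlowUp f J) (hc : Compatible φ q j f hjπ θ)
    (y : P) {V₀ : X.Opens} {n : ℕ} (b₀ : Fin n → Γ(E, V₀)) (hb₀ : IsBasisOn E V₀ b₀) (hy : π y ∈ V₀) :
    ∃ W : P.affineOpens, y ∈ W.1 ∧ IsClosedImmersion (j ∣_ W.1) ∧
      ∃ rs : List Γ(P, W.1), rs.length = n - 1 ∧ LCI.IsKoszulRegularSeq Γ(P, W.1) rs ∧
        RingHom.ker (j.app W.1).hom = Ideal.ofList rs := by
  obtain ⟨V, b, hxV, hb, hreg, hJV⟩ := exists_koszul_bases φ hE hu J hJ b₀ hb₀ (π y) hy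
  haveI := hPB.epi
  obtain ⟨l, hl⟩ := exists_mem_locus π q b hPB.invertible hb (show y ∈ π ⁻¹ᵁ V.1 from hxV)
  obtain ⟨m, rfl⟩ : ∃ m, n = m + 1 := Nat.exists_eq_succ_of_ne_zero l.pos.ne'
  obtain ⟨h1, rs, hlen, hrs, hker⟩ := piece b hb hPB hc V.2 J hf hJV hreg l
  exact ⟨⟨_, Groth.L19.ProjBdl.isAffineOpen_locus hPB hb V.2 l⟩, hl, h1, rs, by simpa using hlen, hrs, hker⟩

theorem isClosedImmersion_of_pieces
    (h : ∀ y : P, ∃ W : P.affineOpens, y ∈ W.1 ∧ IsClosedImmersion (j ∣_ W.1)) : IsClosedImmersion j := by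
  choose W hW hc using h
  exact IsZariskiLocalAtTarget.of_iSup_eq_top (P := @IsClosedImmersion) (fun y => (W y).1)
    (top_le_iff.1 fun y _ => Opens.mem_iSup.2 ⟨y, hW y⟩) hc

end Groth.L11.BlowProj
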