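import Groth.Agent.L11.BlowProj.Basis
import Groth.Agent.L19.ProjBdl.PullComp
import Groth.Agent.L19.ProjBdl.Loci
import Groth.Prelude.Def_ClSub2

/-!
# The coordinates of a morphism into a projective bundle defined by a map to the structure sheaf
-/

set_option autoImplicit false
set_option linter.style.haveILetI false
set_option backward.isDefEq.respectTransparency false
set_option backward.isDefEq.respectTransparency.types false

universe u

open CategoryTheory AlgebraicGeometry TopologicalSpace Opposite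

namespace Groth.L11.BlowProj

open Groth.L19.ProjBdl
open Groth.L18.Frame (rs ro rs_rs ro_ro rs_smul ro_self rs_self pull pull_rs pull_smul)

variable {X X' P : Scheme.{u}} {E : X.Modules} (φ : E ⟶ Coh.structureModule X)

/-- The map `f^* O ⟶ O` at pulled back sections. -/
theorem counit_pull (f : X' ⟶ X) (V : X.Opens) (a : Γ(X, V)) :
    val ((Scheme.Modules.pullbackPushforwardAdjunction f).homEquiv _ _ |>.symm
      (SheafOfModules.unitToPushforwardObjUnit f.toRingCatSheafHom) :
        (Scheme.Modules.pullback f).obj (Coh.structureModule X) ⟶ Coh.structureModule X')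
      (pull f (Coh.structureModule X) V a) = f.app V a := by
  let adj := Scheme.Modules.pullbackPushforwardAdjunction f
  let η : Coh.structureModule X ⟶ (Scheme.Modules.pushforward f).obj (Coh.structureModule X') :=
    SheafOfModules.unitToPushforwardObjUnit f.toRingCatSheafHom
  have h : adj.unit.app _ ≫ (Scheme.Modules.pushforward f).map ((adj.homEquiv _ _).symm η) = η :=
    (adj.homEquiv_unit _ _ ((adj.homEquiv _ _).symm η)).symm.trans (Equiv.apply_symm_apply _ η)
  exact congr($(h).app V a)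

theorem theta_pull (j : X' ⟶ P) (π : P ⟶ X) (f : X' ⟶ X) (hjπ : j ≫ π = f) {O1 : P.Modules}
    (q : (Scheme.Modules.pullback π).obj E ⟶ O1)
    (θ : (Scheme.Modules.pullback j).obj O1 ⟶ Coh.structureModule X')
    (h : (Scheme.Modules.pullbackCongr hjπ).inv.app E ≫ (Scheme.Modules.pullbackComp j π).inv.app E ≫
        (Scheme.Modules.pullback j).map q ≫ θ =
      (Scheme.Modules.pullback f).map φ ≫
        ((Scheme.Modules.pullbackPushforwardAdjunction f).homEquiv _ _).symm
          (SheafOfModules.unitToPushforwardObjUnit f.toRingCatSheafHom))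
    {V : X.Opens} {n : ℕ} (b : Fin n → Γ(E, V)) (i : Fin n)
    (W : X'.Opens) (hW : W ≤ f ⁻¹ᵁ V) (hW' : W ≤ j ⁻¹ᵁ (π ⁻¹ᵁ V)) :
    val θ (rs _ hW' (pull j O1 (π ⁻¹ᵁ V) (sec π q b i))) = f.appLE V W hW (vals φ b i) := by
  subst hjπ
  have h1 := congr($(h).app ((j ≫ π) ⁻¹ᵁ V) (pull (j ≫ π) E V (b i)))
  simp only [Scheme.Modules.Hom.comp_app, ConcreteCategory.comp_apply] at h1
  have e0 := pull_congr (rfl : j ≫ π = j ≫ π) E V (b i) rfl
  rw [rs_self] at e0
  rw [e0, pull_comp] at h1
  have hk := pull_app j q (π ⁻¹ᵁ V) (pull π E V (b i))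
  have h2 : val θ (pull j O1 (π ⁻¹ᵁ V) (sec π q b i)) = (j ≫ π).app V (vals φ b i) :=
    ((congrArg (fun s => val θ s) hk).symm.trans (h1.trans (congrArg _ (pull_app (j ≫ π) φ V (b i))))).trans
      (counit_pull (j ≫ π) V (vals φ b i))
  rw [val_rs, h2]
  rfl

/-- The values of the generators on a locus are multiples of the distinguished one. -/
theorem crd_mul (j : X' ⟶ P) (π : P ⟶ X) (f : X' ⟶ X) (hjπ : j ≫ π = f) {O1 : P.Modules}
    (q : (Scheme.Modules.pullback π).obj E ⟶ O1)
    (θ : (Scheme.Modules.pullback j).obj O1 ⟶ Coh.structureModule X')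
    (h : (Scheme.Modules.pullbackCongr hjπ).inv.app E ≫ (Scheme.Modules.pullbackComp j π).inv.app E ≫
        (Scheme.Modules.pullback j).map q ≫ θ =
      (Scheme.Modules.pullback f).map φ ≫
        ((Scheme.Modules.pullbackPushforwardAdjunction f).homEquiv _ _).symm
          (SheafOfModules.unitToPushforwardObjUnit f.toRingCatSheafHom))
    {V : X.Opens} {n : ℕ} (b : Fin n → Γ(E, V)) (l i : Fin n)
    (W : X'.Opens) (hWl : W ≤ j ⁻¹ᵁ locus π q b l) (hW : W ≤ f ⁻¹ᵁ V) :
    j.appLE _ W hWl (crd π q b l i) * f.appLE V W hW (vals φ b l) = f.appLE V W hW (vals φ b i) := by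
  have hW' : W ≤ j ⁻¹ᵁ (π ⁻¹ᵁ V) := hWl.trans (j.preimage_mono (locus_le π q b l))
  have e := congrArg (fun s => rs _ hWl (pull j O1 (locus π q b l) s)) (crd_smul π q b l i)
  rw [pull_smul, rs_smul, ← pull_rs, ← pull_rs, rs_rs, rs_rs] at e
  rw [← theta_pull φ j π f hjπ q θ h b l W hW hW', ← theta_pull φ j π f hjπ q θ h b i W hW hW', ← e]
  refine Eq.trans ?_ (Scheme.Modules.Hom.app_smul θ _ _).symm
  rfl

end Groth.L11.BlowProj
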